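import Cfsg.Agent.HeckeDeform.Generic
import Cfsg.Agent.HeckeDeform.Corner
import Cfsg.Agent.BNHecke.Algebra
import Cfsg.Agent.Chev.UnipotentCount
import Cfsg.Agent.Chev.WeylCoxeter

/-!
The Hecke algebra of a Chevalley group and the group algebra of its Weyl group as specialisations.
-/

set_option autoImplicit false
set_option synthInstance.maxHeartbeats 200000

namespace Cfsg.Agent.HeckeDeform

open Cfsg Cfsg.Lie Cfsg.Agent.Chev Cfsg.Agent.BN
open scoped MatrixGroups Pointwise

universe u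

variable {D : ChevalleyDatum} (hF : Facts.{u} D)

/-- The Weyl group is finite. -/
noncomputable instance : Fintype ↥(weyl hF) := Fintype.ofFinite _

include hF

theorem gen_weyl (π : ↥(weyl hF)) : ∃ w : List (Fin D.rank), (w.map (wGen hF)).prod = π :=
  wGen_generates hF π

theorem realises_weyl :
    Realises (wGen hF) (fun π => MonoidAlgebra.of ℂ ↥(weyl hF) π) 1 1 where
  gen := gen_weyl hF
  idem := one_mul 1
  one := map_one _
  inj := by
    intro v w e
    funext a
    have := congrArg (fun x : MonoidAlgebra ℂ ↥(weyl hF) => x.coeff a) e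
    simpa [lin, Fintype.linearCombination_apply, MonoidAlgebra.coeff_sum, Finsupp.single_apply,
      MonoidAlgebra.coeff_single] using this
  range := fun x => by
    refine ⟨fun _ => ⟨one_mul x, mul_one x⟩, fun _ => ⟨fun a => x.coeff a, ?_⟩⟩
    refine MonoidAlgebra.coeff_injective (Finsupp.ext fun a => ?_)
    simp [lin, Fintype.linearCombination_apply, MonoidAlgebra.coeff_sum, MonoidAlgebra.coeff_single]
  up := fun i c _ => (map_mul _ _ _).symm
  down := fun i c _ => by rw [one_smul, sub_self, zero_smul, add_zero]; exact (map_mul _ _ _).symm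

variable (F : Type u) [Field F]

/-- A representative of a Weyl element in the group. -/
noncomputable def nRep (π : ↥(weyl hF)) : ↥(D.group F) :=
  ⟨repN hF (π : Equiv.Perm (Fin D.nroots)), monomial_le_group hF (repN_mem hF _)⟩

theorem nRep_mem (π : ↥(weyl hF)) : nRep hF F π ∈ (bnPair hF (F := F)).N :=
  Subgroup.mem_subgroupOf.2 (repN_mem hF _)

theorem monPerm_nRep (π : ↥(weyl hF)) :
    monPerm hF ((nRep hF F π : ↥(D.group F)) : GL D.Idx F) = π :=
  monPerm_eq hF (isMon_repN hF π.2)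

theorem eqv_iff {n n' : ↥(D.group F)} (hn : n ∈ (bnPair hF (F := F)).N) (hn' : n' ∈ (bnPair hF (F := F)).N) :
    n⁻¹ * n' ∈ (bnPair hF (F := F)).B ↔ monPerm hF (n : GL D.Idx F) = monPerm hF (n' : GL D.Idx F) := by
  rw [show ((bnPair hF (F := F)).B) = (D.borelSubgroup F).subgroupOf (D.group F) from rfl, Subgroup.mem_subgroupOf,
    Subgroup.coe_mul, Subgroup.coe_inv]
  have hn1 : (n : GL D.Idx F) ∈ D.monomialSubgroup F := Subgroup.mem_subgroupOf.1 hn
  have hn2 : (n' : GL D.Idx F) ∈ D.monomialSubgroup F := Subgroup.mem_subgroupOf.1 hn'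
  have hm : (n : GL D.Idx F)⁻¹ * n' ∈ D.monomialSubgroup F := mul_mem (inv_mem hn1) hn2
  have hπ := isMon_mul hF (isMon_inv hF hn1 (isMon_monPerm hF hn1)) (isMon_monPerm hF hn2)
  constructor
  · intro h
    obtain ⟨c, hc⟩ := (mem_diagonal_iff hF).1 ((borel_inf_monomial hF (F := F)).le ⟨h, hm⟩)
    rw [← hc] at hπ
    exact inv_mul_eq_one.1 (isMon_unique hF hπ (isMon_torus hF c))
  · intro h
    rw [h, inv_mul_cancel] at hπ
    exact Subgroup.mem_sup_right (mem_diagonal_of_isMon_one hF hm hπ)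

theorem monPerm_prod (w : List (Fin D.rank)) :
    monPerm hF (((w.map (nGrp hF (F := F))).prod : ↥(D.group F)) : GL D.Idx F) = pWord hF w := by
  refine monPerm_eq hF ?_
  have : (((w.map (nGrp hF (F := F))).prod : ↥(D.group F)) : GL D.Idx F) = nWord hF w := by
    induction w with
    | nil => rfl
    | cons i w ih => rw [List.map_cons, List.prod_cons, Subgroup.coe_mul, ih]; rfl
  rw [this]
  exact isMon_nWord hF w

theorem wlen_eq {n : ↥(D.group F)} (hn : n ∈ (bnPair hF (F := F)).N) {π : ↥(weyl hF)}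
    (h : monPerm hF (n : GL D.Idx F) = π) : wlen (bnPair hF (F := F)) n = glen (wGen hF) π := by
  refine le_antisymm ?_ ?_
  · obtain ⟨w, hl, hp⟩ := exists_glen (wGen hF) (gen_weyl hF) π
    rw [← hl, ← List.length_map (nGrp hF (F := F))]
    have hw : ∀ x ∈ w.map (nGrp hF (F := F)), x ∈ (bnPair hF (F := F)).S := fun x hx => by
      obtain ⟨i, -, rfl⟩ := List.mem_map.1 hx
      exact ⟨i, rfl⟩
    refine wlen_le _ hw ((eqv_iff hF F (prod_mem_N hw) hn).2 ?_)
    rw [monPerm_prod, h, ← hp, coe_prod_wGen]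
  · obtain ⟨w, hw, hl, hp⟩ := exists_min hn
    obtain ⟨l, rfl⟩ : ∃ l : List (Fin D.rank), l.map (nGrp hF (F := F)) = w := by
      clear hl hp
      induction w with
      | nil => exact ⟨[], rfl⟩
      | cons a w ih =>
        obtain ⟨l, hl⟩ := ih fun x hx => hw x (List.mem_cons_of_mem _ hx)
        obtain ⟨i, hi⟩ := hw a List.mem_cons_self
        exact ⟨i :: l, by rw [List.map_cons, hl, hi]⟩
    rw [← hl, List.length_map]
    have he := (eqv_iff hF F (prod_mem_N hw) hn).1 hp
    rw [monPerm_prod, h] at he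
    have : (l.map (wGen hF)).prod = π := Subtype.ext (by rw [coe_prod_wGen, he])
    rw [← this]
    exact glen_le _ l

/-- `T_π` over the complex numbers. -/
noncomputable def cT [Fintype F] (π : ↥(weyl hF)) : MonoidAlgebra ℂ ↥(D.group F) :=
  MonoidAlgebra.mapRingHom ↥(D.group F) Complex.ofRealHom (BNHecke.T (bnPair hF (F := F)) (nRep hF F π))

variable [Fintype F]

theorem coeff_cT (π : ↥(weyl hF)) (g : ↥(D.group F)) [Decidable (g ∈ dc (bnPair hF (F := F)) (nRep hF F π))] :
    (cT hF F π).coeff g =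
      if g ∈ dc (bnPair hF (F := F)) (nRep hF F π) then (Nat.card (bnPair hF (F := F)).B : ℂ)⁻¹ else 0 := by
  classical
  rw [cT, MonoidAlgebra.coeff_mapRingHom, BNHecke.T, MonoidAlgebra.coeff_smul_apply, BNHecke.coeff_ind]
  split <;> simp

omit [Fintype F] in
theorem dc_inj {π π' : ↥(weyl hF)} {g : ↥(D.group F)} (h : g ∈ dc (bnPair hF (F := F)) (nRep hF F π))
    (h' : g ∈ dc (bnPair hF (F := F)) (nRep hF F π')) : π = π' := by
  have : nRep hF F π' ∈ dc (bnPair hF (F := F)) (nRep hF F π) := by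
    rw [← dc_eq_of_mem h, dc_eq_of_mem h']; exact self_mem_dc _
  have := (eqv_iff hF F (nRep_mem hF F π) (nRep_mem hF F π')).1
    (eqv_of_mem_dc (nRep_mem hF F π) (nRep_mem hF F π') this)
  rw [monPerm_nRep, monPerm_nRep] at this
  exact Subtype.ext this

omit [Fintype F] in
theorem dc_cover (g : ↥(D.group F)) : ∃ π : ↥(weyl hF), g ∈ dc (bnPair hF (F := F)) (nRep hF F π) := by
  obtain ⟨n, hn, hg⟩ := exists_mem_dc (P := bnPair hF (F := F)) g
  refine ⟨⟨monPerm hF (n : GL D.Idx F), monPerm_mem_weyl hF (Subgroup.mem_subgroupOf.1 hn)⟩, ?_⟩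
  rw [dc_eq_of_eqv ((eqv_iff hF F hn (nRep_mem hF F _)).2 (by rw [monPerm_nRep]))]
  exact hg

theorem T_transfer {n : ↥(D.group F)} (hn : n ∈ (bnPair hF (F := F)).N) {π : ↥(weyl hF)}
    (h : monPerm hF (n : GL D.Idx F) = π) :
    BNHecke.T (bnPair hF (F := F)) (nRep hF F π) = BNHecke.T (bnPair hF (F := F)) n :=
  BNHecke.T_congr ((eqv_iff hF F hn (nRep_mem hF F π)).2 (by rw [monPerm_nRep, h]))

theorem q_eq (i : Fin D.rank) :
    BNHecke.q (bnPair hF (F := F)) (nGrp hF i) ⟨i, rfl⟩ = Fintype.card F := by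
  classical
  set P := bnPair hF (F := F)
  have hpar : (BNHecke.par P (nGrp hF i) ⟨i, rfl⟩).map (D.group F).subtype = PJ {i} := by
    refine le_antisymm ?_ ?_
    · rintro _ ⟨x, hx, rfl⟩
      have hi : (i : Fin D.rank) ∈ idxSet D (↑(({i} : Finset (Fin D.rank)).map Fin.valEmbedding) : Set ℕ) :=
        mem_idxSet.2 (by simp)
      have hb : ∀ y : ↥(D.group F), y ∈ P.B → (y : GL D.Idx F) ∈ (PJ {i} : Subgroup (GL D.Idx F)) :=
        fun y hy => borel_le_parabolic _ (Subgroup.mem_subgroupOf.1 hy)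
      rcases hx with hx | hx <;> obtain ⟨a, ha, b, hb', rfl⟩ := mem_dc.1 hx <;>
        simp only [Subgroup.subtype_apply, Subgroup.coe_mul] <;>
        refine mul_mem (mul_mem (hb _ ha) ?_) (hb _ hb')
      · exact one_mem _
      · exact nS_mem_parabolic hF _ hi
    · refine sup_le (fun g hg => ?_) ((Subgroup.closure_le _).2 fun g hg => ?_)
      · exact ⟨⟨g, borel_le_group hF hg⟩, BNHecke.B_le_par _ (Subgroup.mem_subgroupOf.2 hg), rfl⟩
      · obtain ⟨j, hj, hjr, e⟩ := hg
        simp only [Finset.map_singleton, Finset.coe_singleton, Set.mem_singleton_iff, Fin.valEmbedding_apply] at hj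
        subst hj
        refine ⟨nGrp hF i, Or.inr (self_mem_dc _), ?_⟩
        exact Units.ext ((nG_val hF _ 1).trans e.symm)
  have hc : Nat.card ↥(BNHecke.par P (nGrp hF i) ⟨i, rfl⟩) =
      Nat.card ↥P.B * (1 + Fintype.card F) := by
    rw [← Subgroup.card_map_of_injective (D.group F).subtype_injective, hpar, card_PJ hF,
      show Nat.card ↥P.B = Nat.card ↥(D.borelSubgroup F) from
        Nat.card_congr (Subgroup.subgroupOfEquivOfLe (borel_le_group hF)).toEquiv, card_borel hF,
      card_posUnipotent hF]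
    congr 1
    have hw : ∀ π, π ∈ wJ hF ({i} : Finset (Fin D.rank)) ↔ π = 1 ∨ π = wPerm hF i := by
      intro π
      rw [wJ]
      constructor
      · intro h
        induction h using Subgroup.closure_induction with
        | mem x hx =>
          obtain ⟨j, hj, rfl⟩ := hx
          exact Or.inr (by rw [Finset.mem_singleton.1 hj])
        | one => exact Or.inl rfl
        | mul x y _ _ hx hy =>
          rcases hx with rfl | rfl <;> rcases hy with rfl | rfl <;> simp [wPerm_sq]
        | inv x _ hx => rcases hx with rfl | rfl <;> simp [wPerm_inv]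
      · rintro (rfl | rfl)
        · exact one_mem _
        · exact Subgroup.subset_closure ⟨i, Finset.mem_singleton_self i, rfl⟩
    have hne : (1 : Equiv.Perm (Fin D.nroots)) ≠ wPerm hF i := fun e => by
      have := congrArg (fun π : Equiv.Perm (Fin D.nroots) => (π (sRoot hF i) : ℕ)) e
      simp only [Equiv.Perm.one_apply, wPerm_sRoot] at this
      exact neg_ne_self hF (hF.simple_lt i i.2) this.symm
    rw [poin, show ((wJ hF ({i} : Finset (Fin D.rank)) : Set (Equiv.Perm (Fin D.nroots))).toFinite.toFinset) =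
      {1, wPerm hF i} from by ext π; simp [hw], Finset.sum_pair hne]
    have h0 : invCard (D := D) (1 : Equiv.Perm (Fin D.nroots)) = 0 := by
      rw [invCard, Nat.card_eq_zero]
      exact Or.inl ⟨fun r => absurd r.2.2 (not_lt.2 r.2.1)⟩
    have h1 : invCard (wPerm hF i) = 1 := by
      rw [invCard, Nat.card_eq_one_iff_unique]
      refine ⟨⟨fun a b => ?_⟩, ⟨⟨sRoot hF i, hF.simple_pos i i.2, ?_⟩⟩⟩
      · have key : ∀ r : Fin D.nroots, half D ≤ (r : ℕ) → (wPerm hF i r : ℕ) < half D → r = sRoot hF i := by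
          intro r h1 h2
          by_contra hne
          have := hF.refl_pos i i.2 r r.2 h1 fun e => hne (Fin.ext e)
          rw [wPerm_val] at h2
          omega
        exact Subtype.ext ((key _ a.2.1 a.2.2).trans (key _ b.2.1 b.2.2).symm)
      · rw [wPerm_sRoot]
        exact (neg_lt_half_iff hF (sRoot hF i).2).2 (hF.simple_pos i i.2)
    rw [h0, h1, pow_zero, pow_one]
  show (Nat.card ↥(BNHecke.par P (nGrp hF i) ⟨i, rfl⟩) : ℝ) / Nat.card ↥P.B - 1 = _
  rw [hc, Nat.cast_mul, mul_div_cancel_left₀ _ (BNHecke.card_B_ne (P := P))]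
  push_cast
  ring

theorem realises_hecke :
    Realises (wGen hF) (cT hF F) (Fintype.card F : ℂ) (cT hF F 1) := by
  classical
  set P := bnPair hF (F := F) with hP
  set Φ := MonoidAlgebra.mapRingHom ↥(D.group F) Complex.ofRealHom
  have hN1 : (1 : ↥(D.group F)) ∈ P.N := one_mem _
  have h1 : BNHecke.T P (nRep hF F 1) = BNHecke.T P 1 :=
    T_transfer hF F hN1 (π := 1) (monPerm_eq hF (isMon_one hF))
  have hone : ∀ π, cT hF F 1 * cT hF F π = cT hF F π ∧ cT hF F π * cT hF F 1 = cT hF F π := fun π => by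
    simp only [cT]
    rw [← map_mul, ← map_mul, h1, BNHecke.one_mul_T, BNHecke.T_mul_one]
    exact ⟨rfl, rfl⟩
  have hmul : ∀ (i : Fin D.rank) (c : ↥(weyl hF)),
      monPerm hF ((nGrp hF i * nRep hF F c : ↥(D.group F)) : GL D.Idx F) = (wGen hF i * c : ↥(weyl hF)) :=
    fun i c => monPerm_eq hF (isMon_mul hF (isMon_nS hF i) (isMon_repN hF c.2))
  have hs : ∀ i : Fin D.rank, BNHecke.T P (nRep hF F (wGen hF i)) = BNHecke.T P (nGrp hF i) := fun i =>
    T_transfer hF F (P.subset ⟨i, rfl⟩) (monPerm_eq hF (isMon_nS hF i))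
  have hlin : ∀ (v : ↥(weyl hF) → ℂ) (g : ↥(D.group F)) (π : ↥(weyl hF)), g ∈ dc P (nRep hF F π) →
      (lin (cT hF F) v).coeff g = v π * (Nat.card P.B : ℂ)⁻¹ := by
    intro v g π hg
    rw [lin, Fintype.linearCombination_apply, MonoidAlgebra.coeff_sum, Finsupp.finsetSum_apply,
      Finset.sum_eq_single π]
    · rw [MonoidAlgebra.coeff_smul_apply, coeff_cT, if_pos hg, smul_eq_mul]
    · intro σ _ hne
      rw [MonoidAlgebra.coeff_smul_apply, coeff_cT, if_neg fun h => hne (dc_inj hF F h hg), smul_zero]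
    · intro h; exact absurd (Finset.mem_univ _) h
  have hB : (Nat.card P.B : ℂ) ≠ 0 := Nat.cast_ne_zero.2 Nat.card_pos.ne'
  have hε : ∀ g, (cT hF F 1).coeff g = if g ∈ P.B then (Nat.card P.B : ℂ)⁻¹ else 0 := fun g => by
    have e : ∀ x, x ∈ dc P (nRep hF F 1) ↔ x ∈ P.B := fun x => by
      rw [dc_eq_of_eqv ((eqv_iff hF F hN1 (nRep_mem hF F 1)).2 (by rw [monPerm_nRep]; exact monPerm_eq hF (isMon_one hF))),
        BNHecke.dc_one]
      rfl
    rw [coeff_cT]
    exact if_congr (e g) rfl rfl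
  refine ⟨gen_weyl hF, (hone 1).1, rfl, ?_, fun x => ⟨?_, ?_⟩, fun i c hle => ?_, fun i c hlt => ?_⟩
  · intro v w e
    funext π
    have := congrArg (fun x : MonoidAlgebra ℂ ↥(D.group F) => x.coeff (nRep hF F π)) e
    simp only [hlin v _ π (self_mem_dc _), hlin w _ π (self_mem_dc _)] at this
    exact mul_right_cancel₀ (inv_ne_zero hB) this
  · rintro ⟨v, rfl⟩
    simp only [lin, Fintype.linearCombination_apply, Finset.mul_sum, Finset.sum_mul, mul_smul_comm, smul_mul_assoc,
      (hone _).1, (hone _).2, and_self]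
  · rintro ⟨hl, hr⟩
    refine ⟨fun π => x.coeff (nRep hF F π) * Nat.card P.B, MonoidAlgebra.coeff_injective (Finsupp.ext fun g => ?_)⟩
    obtain ⟨π, hπ⟩ := dc_cover hF F g
    rw [hlin _ _ π hπ, mul_assoc, mul_inv_cancel₀ hB, mul_one]
    have hfilt : ∀ b ∈ P.B, ∀ k : ↥(D.group F), x.coeff (b * k) = x.coeff k ∧ x.coeff (k * b) = x.coeff k := by
      intro b hb k
      constructor
      · rw [← hl, coeff_mul_sum, coeff_mul_sum, ← Equiv.sum_comp (Equiv.mulLeft b)]
        refine Finset.sum_congr rfl fun h _ => ?_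
        simp only [Equiv.coe_mulLeft, hε, _root_.mul_inv_rev, mul_assoc, inv_mul_cancel_left,
          Subgroup.mul_mem_cancel_left _ hb]
      · rw [← hr, coeff_mul_sum, coeff_mul_sum]
        refine Finset.sum_congr rfl fun h _ => ?_
        simp only [hε, ← mul_assoc, Subgroup.mul_mem_cancel_right _ hb]
    obtain ⟨a, ha, b, hb, rfl⟩ := mem_dc.1 hπ
    rw [(hfilt b hb _).2, (hfilt a ha _).1]
  · simp only [cT]
    rw [← map_mul, hs, BNHecke.T_gen_mul (⟨i, rfl⟩ : nGrp hF i ∈ P.S) (nRep_mem hF F c),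
      T_transfer hF F (mul_mem (P.subset ⟨i, rfl⟩) (nRep_mem hF F c)) (hmul i c)]
    rw [wlen_eq hF F (nRep_mem hF F c) (monPerm_nRep hF F c),
      wlen_eq hF F (mul_mem (P.subset ⟨i, rfl⟩) (nRep_mem hF F c)) (hmul i c)]
    exact hle
  · set m := wGen hF i * c with hm
    have hsm : wGen hF i * m = c := by rw [hm, ← mul_assoc, wGen_sq, one_mul]
    have hup : BNHecke.T P (nGrp hF i) * BNHecke.T P (nRep hF F m) = BNHecke.T P (nRep hF F c) := by
      rw [BNHecke.T_gen_mul (⟨i, rfl⟩ : nGrp hF i ∈ P.S) (nRep_mem hF F m),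
        T_transfer hF F (mul_mem (P.subset ⟨i, rfl⟩) (nRep_mem hF F m)) (hmul i m |>.trans (by rw [hsm]))]
      rw [wlen_eq hF F (nRep_mem hF F m) (monPerm_nRep hF F m),
        wlen_eq hF F (mul_mem (P.subset ⟨i, rfl⟩) (nRep_mem hF F m)) ((hmul i m).trans (by rw [hsm]))]
      omega
    have hsq := BNHecke.gen_mul_sum (show nGrp hF i ∈ P.S from ⟨i, rfl⟩)
    rw [q_eq, mul_add, BNHecke.T_mul_one] at hsq
    have key : BNHecke.T P (nGrp hF i) * BNHecke.T P (nRep hF F c) =
        (Fintype.card F : ℝ) • BNHecke.T P (nRep hF F m) + ((Fintype.card F : ℝ) - 1) • BNHecke.T P (nRep hF F c) := by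
      rw [← hup, ← mul_assoc, eq_sub_of_add_eq' hsq, sub_mul, smul_mul_assoc, add_mul, BNHecke.one_mul_T, smul_add,
        sub_smul, one_smul]
      abel
    simp only [cT]
    rw [← map_mul, hs, key, map_add]
    congr 1 <;>
    · refine MonoidAlgebra.coeff_injective (Finsupp.ext fun g => ?_)
      simp [hP]

theorem st_eps [Fintype ↥(D.group F)] : st (cT hF F 1) = cT hF F 1 := by
  classical
  refine MonoidAlgebra.coeff_injective (Finsupp.ext fun g => ?_)
  rw [coeff_st, coeff_cT, coeff_cT]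
  have hi : ∀ x, x ∈ dc (bnPair hF (F := F)) (nRep hF F 1) → x⁻¹ ∈ dc (bnPair hF (F := F)) (nRep hF F 1) := by
    intro x hx
    rw [dc_eq_of_eqv ((eqv_iff hF F (one_mem _) (nRep_mem hF F 1)).2
      (by rw [monPerm_nRep]; exact monPerm_eq hF (isMon_one hF))), BNHecke.dc_one] at hx ⊢
    exact Subgroup.inv_mem _ hx
  by_cases hg : g ∈ dc (bnPair hF (F := F)) (nRep hF F 1)
  · rw [if_pos (hi _ hg), if_pos hg, map_inv₀, Complex.conj_natCast]
  · rw [if_neg fun h => hg (by simpa using hi _ h), if_neg hg, map_zero]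

end Cfsg.Agent.HeckeDeform
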