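import Cfsg.Agent.HeckeDeform.Family
import Mathlib.Data.Fintype.Card

/-!
The polynomial family attached to a finite group with generating involutions.
-/

set_option autoImplicit false

namespace Cfsg.Agent.HeckeDeform

open Matrix Polynomial

variable {W κ : Type*} [Group W] (s : κ → W)

/-- The length for the generators `s`. -/
noncomputable def glen (π : W) : ℕ := sInf {k | ∃ w : List κ, w.length = k ∧ (w.map s).prod = π}

theorem glen_le (w : List κ) : glen s (w.map s).prod ≤ w.length := Nat.sInf_le ⟨w, rfl, rfl⟩

theorem exists_glen (hgen : ∀ π, ∃ w : List κ, (w.map s).prod = π) (π : W) :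
    ∃ w : List κ, w.length = glen s π ∧ (w.map s).prod = π :=
  Nat.sInf_mem (s := {k | ∃ w : List κ, w.length = k ∧ (w.map s).prod = π})
    (let ⟨w, hw⟩ := hgen π; ⟨w.length, w, rfl, hw⟩)

theorem glen_one : glen s 1 = 0 := Nat.le_zero.1 (glen_le s [])

open Classical in
/-- A shortest word. -/
noncomputable def gword (π : W) : List κ :=
  if h : ∃ w : List κ, w.length = glen s π ∧ (w.map s).prod = π then h.choose else []

theorem gword_spec (hgen : ∀ π, ∃ w : List κ, (w.map s).prod = π) (π : W) :
    (gword s π).length = glen s π ∧ ((gword s π).map s).prod = π := by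
  rw [gword, dif_pos (exists_glen s hgen π)]
  exact (exists_glen s hgen π).choose_spec

variable [Fintype W] [DecidableEq W]

/-- Left multiplication by a generator. -/
noncomputable def genM (i : κ) : Matrix W W ℂ[X] :=
  Matrix.of fun r c =>
    if glen s c ≤ glen s (s i * c) then (if r = s i * c then 1 else 0)
    else X * (if r = s i * c then 1 else 0) + (X - 1) * (if r = c then 1 else 0)

/-- Left multiplications by the basis. -/
noncomputable def heckeL (π : W) : Matrix W W ℂ[X] := ((gword s π).map (genM s)).prod

section Build

variable {R : Type*} [Ring R] [Algebra ℂ R] (T : W → R) (t : ℂ)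

/-- The linear extension of `T`. -/
noncomputable def lin : (W → ℂ) →ₗ[ℂ] R := Fintype.linearCombination ℂ T

omit [Group W] in
theorem lin_single (a : W) : lin T (Pi.single a 1) = T a := by
  simp [lin, Fintype.linearCombination_apply, Pi.single_apply, ite_smul]

/-- The hypotheses under which `T` realises the family at `t`. -/
structure Realises (ε : R) : Prop where
  gen : ∀ π, ∃ w : List κ, (w.map s).prod = π
  idem : ε * ε = ε
  one : T 1 = ε
  inj : Function.Injective (lin T)
  range : ∀ x, x ∈ LinearMap.range (lin T) ↔ ε * x = x ∧ x * ε = x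
  up : ∀ i c, glen s c ≤ glen s (s i * c) → T (s i) * T c = T (s i * c)
  down : ∀ i c, ¬ glen s c ≤ glen s (s i * c) → T (s i) * T c = t • T (s i * c) + (t - 1) • T c

variable {s T t} {ε : R} (h : Realises s T t ε)
include h

theorem gen_mul (i : κ) (v : W → ℂ) :
    T (s i) * lin T v = lin T ((genM s i).map (evalRingHom t) *ᵥ v) := by
  rw [← Finset.univ_sum_single v, map_sum, Matrix.mulVec_sum, map_sum, Finset.mul_sum]
  refine Finset.sum_congr rfl fun c _ => ?_
  have hc : Pi.single c (v c) = v c • (Pi.single c 1 : W → ℂ) := by rw [← Pi.single_smul, smul_eq_mul, mul_one]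
  rw [hc, map_smul, Matrix.mulVec_smul, map_smul, mul_smul_comm, lin_single, Matrix.mulVec_single_one]
  congr 1
  by_cases hu : glen s c ≤ glen s (s i * c)
  · rw [h.up i c hu, ← lin_single T (s i * c)]
    congr 1
    funext r
    rw [Pi.single_apply]
    simp only [Matrix.col_apply, Matrix.map_apply, genM, Matrix.of_apply, if_pos hu]
    split <;> simp
  · rw [h.down i c hu, ← lin_single T (s i * c), ← lin_single T c, ← map_smul, ← map_smul, ← map_add]
    congr 1
    funext r
    simp only [Matrix.col_apply, Matrix.map_apply, genM, Matrix.of_apply, if_neg hu, coe_evalRingHom, eval_add,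
      eval_mul, eval_sub, eval_one, eval_X, Pi.add_apply, Pi.smul_apply, Pi.single_apply, smul_eq_mul]
    split <;> split <;> simp

theorem word_mul : ∀ (w : List κ), glen s (w.map s).prod = w.length → ∀ v : W → ℂ,
    T (w.map s).prod * lin T v = lin T (((w.map (genM s)).prod).map (evalRingHom t) *ᵥ v) := by
  intro w
  induction w with
  | nil =>
    intro _ v
    simp only [List.map_nil, List.prod_nil, h.one, Matrix.map_one _ (map_zero _) (map_one _), Matrix.one_mulVec]
    exact ((h.range _).1 (LinearMap.mem_range_self _ v)).1
  | cons i w ih =>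
    intro hl v
    simp only [List.map_cons, List.prod_cons, List.length_cons] at hl ⊢
    obtain ⟨w', hw', hp'⟩ := exists_glen s h.gen (w.map s).prod
    have h1 : glen s (s i * (w.map s).prod) ≤ glen s (w.map s).prod + 1 := by
      have := glen_le s (i :: w')
      simp only [List.map_cons, List.prod_cons, List.length_cons, hw', hp'] at this
      exact this
    have hle := glen_le s w
    rw [← h.up i _ (by omega), mul_assoc, ih (by omega), gen_mul h, Matrix.mulVec_mulVec, ← Matrix.map_mul]

/-- The realisation. -/
noncomputable def model : Model (specialize (heckeL s) t) 1 ε where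
  φ := lin T
  inj := h.inj
  unit := by rw [lin_single, h.one]
  idem := h.idem
  mem_range := h.range
  mul := fun a v => by
    obtain ⟨hl, hp⟩ := gword_spec s h.gen a
    have := word_mul h (gword s a) (by rw [hp]; exact hl.symm) v
    rw [hp] at this
    rw [lin_single, this]
    rfl

end Build

end Cfsg.Agent.HeckeDeform
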