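import Cfsg.Agent.HeckeDeform.ChevModel
import Mathlib.FieldTheory.Finite.GaloisField

/-!
The constituents of the permutation character on the cosets of a Borel subgroup correspond in number
to the conjugacy classes of the Weyl group.
-/

set_option autoImplicit false
set_option synthInstance.maxHeartbeats 200000

namespace Cfsg.Agent.HeckeDeform

open Cfsg Cfsg.Lie Cfsg.Agent.Chev
open scoped MatrixGroups ComplexConjugate

universe u

variable {D : ChevalleyDatum}

theorem isMult_chev (hF₀ : Facts.{0} D) : IsMult (heckeL (wGen hF₀)) 1 := by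
  classical
  refine isMult_of_infinite (S := Set.range fun k : ℕ => ((2 ^ (k + 1) : ℕ) : ℂ)) ?_ ?_
  · refine Set.infinite_range_of_injective fun a b h => ?_
    have := Nat.pow_right_injective (le_refl 2) (Nat.cast_injective h)
    omega
  · rintro _ ⟨k, rfl⟩
    have hc : Nat.card (GaloisField 2 (k + 1)) = 2 ^ (k + 1) := GaloisField.card 2 (k + 1) (by omega)
    have : Fintype (GaloisField 2 (k + 1)) := Fintype.ofFinite _
    have := (realises_hecke hF₀ (GaloisField 2 (k + 1)))
    rw [show ((Fintype.card (GaloisField 2 (k + 1)) : ℕ) : ℂ) = ((2 ^ (k + 1) : ℕ) : ℂ) by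
      rw [← Nat.card_eq_fintype_card, hc]] at this
    exact (model this).isMult

theorem card_irr_weyl (hF : Facts.{u} D) :
    Module.finrank ℂ (cornerCenter ℂ (1 : MonoidAlgebra ℂ ↥(weyl hF))) = Nat.card (ConjClasses ↥(weyl hF)) := by
  rw [finrank_cornerCenter (one_mul 1), ← Char.card_irrCharacter]
  refine Nat.card_congr (Equiv.subtypeUnivEquiv fun χ => ?_)
  classical
  obtain ⟨n, hn, hd⟩ := Char.IsIrr.degree χ.2
  have : ev (χ : ↥(weyl hF) → ℂ) 1 = (χ : ↥(weyl hF) → ℂ) 1 := by
    show ∑ g, _ = _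
    simp [MonoidAlgebra.one_def, MonoidAlgebra.coeff_single, Finsupp.single_apply]
  rw [this, hd]
  exact Nat.cast_ne_zero.2 (by omega)

theorem exists_add_iff {G : Type*} [Group G] [Fintype G] {φ₀ : G → ℂ} (h₀ : IsCharacter G φ₀)
    (χ : IrrCharacter G) :
    (∃ φ : G → ℂ, IsCharacter G φ ∧ φ₀ = (χ : G → ℂ) + φ) ↔ classInner φ₀ (χ : G → ℂ) ≠ 0 := by
  constructor
  · rintro ⟨φ, hφ, rfl⟩
    obtain ⟨k, hk⟩ := Char.classInner_isCharacter_eq_natCast hφ (Char.IsIrr.isCharacter χ.2)
    rw [Char.classInner_add_left, Char.classInner_irr_self χ.2, hk, ← Nat.cast_one, ← Nat.cast_add, Nat.cast_ne_zero]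
    omega
  · exact fun h => ⟨_, Char.IsChar.sub_constituent h₀ χ.2 h, by abel⟩

theorem card_constituents (hF₀ : Facts.{0} D) (hF : Facts.{u} D) (F : Type u) [Field F] [Fintype F] :
    Nat.card {χ : IrrCharacter ↥(D.group F) //
      ∃ φ : ↥(D.group F) → ℂ, IsCharacter ↥(D.group F) φ ∧
        fixedPointCharacter ((D.borelSubgroup F).subgroupOf (D.group F)) = (χ : ↥(D.group F) → ℂ) + φ} =
      Nat.card (ConjClasses ↥(weyl hF)) := by
  classical
  have := Fintype.ofFinite ↥(D.group F)
  have hM : IsMult (heckeL (wGen hF)) 1 := isMult_chev hF₀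
  set M₁ := model (realises_hecke hF F)
  set M₂ := model (realises_weyl hF)
  have hst : st (1 : MonoidAlgebra ℂ ↥(weyl hF)) = 1 := by
    rw [← map_one (MonoidAlgebra.of ℂ ↥(weyl hF)), st_of, inv_one]
  rw [← card_irr_weyl hF, ← finrank_invariant hM M₁ M₂ (det_gram_ne_zero M₁ (st_eps hF F)) (det_gram_ne_zero M₂ hst),
    finrank_cornerCenter M₁.idem]
  refine Nat.card_congr (Equiv.subtypeEquivRight fun χ => ?_)
  set B := (bnPair hF (F := F)).B
  show (∃ φ, IsCharacter ↥(D.group F) φ ∧ fixedPointCharacter B = _ + φ) ↔ _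
  rw [exists_add_iff (GLFlags.isCharacter_fixedPointCharacter B) χ, GLFlags.fixedPointCharacter_eq_indFun,
    Char.classInner_indFun_left B _ (Char.isClassFunction_of_isIrr χ.2)]
  have key : classInner (fun _ : ↥B => (1 : ℂ)) (fun b : ↥B => (χ : ↥(D.group F) → ℂ) b) =
      conj (ev (χ : ↥(D.group F) → ℂ) (cT hF F 1)) := by
    have hev : ev (χ : ↥(D.group F) → ℂ) (cT hF F 1) =
        (Nat.card ↥B : ℂ)⁻¹ * ∑ b : ↥B, (χ : ↥(D.group F) → ℂ) b := by
      show ∑ g, _ = _
      rw [Finset.mul_sum, ← Finset.sum_subset (Finset.filter_subset (· ∈ B) Finset.univ),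
        Finset.sum_subtype (p := (· ∈ B)) _ (by simp)]
      · refine Finset.sum_congr rfl fun b _ => ?_
        rw [coeff_cT, if_pos]
        rw [BN.dc_eq_of_eqv ((eqv_iff hF F (one_mem _) (nRep_mem hF F 1)).2
          (by rw [monPerm_nRep]; exact monPerm_eq hF (isMon_one hF))), BNHecke.dc_one]
        exact b.2
      · intro g _ hg
        rw [coeff_cT, if_neg, zero_mul]
        rw [BN.dc_eq_of_eqv ((eqv_iff hF F (one_mem _) (nRep_mem hF F 1)).2
          (by rw [monPerm_nRep]; exact monPerm_eq hF (isMon_one hF))), BNHecke.dc_one]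
        simpa using hg
    rw [classInner, hev, map_mul, map_inv₀, Complex.conj_natCast, map_sum]
    simp
  rw [key, map_ne_zero]

theorem card_constituents_coxeter (hF₀ : Facts.{0} D) (hF : Facts.{u} D) (F : Type u) [Field F] [Fintype F]
    (M : CoxeterMatrix (Fin D.rank)) (hM : ∀ i j, orderOf (wPerm hF i * wPerm hF j) = M i j) :
    Nat.card {χ : IrrCharacter ↥(D.group F) //
      ∃ φ : ↥(D.group F) → ℂ, IsCharacter ↥(D.group F) φ ∧
        fixedPointCharacter ((D.borelSubgroup F).subgroupOf (D.group F)) = (χ : ↥(D.group F) → ℂ) + φ} =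
      Nat.card (ConjClasses M.Group) := by
  obtain ⟨cs, -⟩ := exists_weylCoxeter hF M hM
  rw [card_constituents hF₀ hF F]
  refine Nat.card_congr (Equiv.ofBijective (ConjClasses.map cs.mulEquiv.toMonoidHom) ⟨?_, ?_⟩)
  · intro a b
    obtain ⟨a, rfl⟩ := ConjClasses.exists_rep a
    obtain ⟨b, rfl⟩ := ConjClasses.exists_rep b
    intro h
    have h' := ConjClasses.mk_eq_mk_iff_isConj.1 h
    exact ConjClasses.mk_eq_mk_iff_isConj.2 (by simpa using cs.mulEquiv.symm.toMonoidHom.map_isConj h')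
  · exact ConjClasses.map_surjective cs.mulEquiv.surjective

end Cfsg.Agent.HeckeDeform
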